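import Cfsg.Agent.H391.HT.NumP

/-!
# S3512: the sieve for the alternating groups of degree `9 ≤ n ≤ 70`

`alt_sieve` : if `CP (n! / 2) n! w (p ^ k) m h`, `9 ≤ n ≤ 70`, `p ≤ n`, `n - 2 ≤ w`, then `(w, p ^ k, m)` is in
the explicit list `exA n` (nonempty only for `n ∈ {9, …, 14, 17, …, 26}`).
-/

set_option autoImplicit false
set_option maxRecDepth 100000

namespace Cfsg.Agent.H735.HT

open Cfsg.Agent.H391.HT

/-- split off the powers of `p` -/
def strip (p : ℕ) : ℕ → ℕ → ℕ → ℕ × ℕ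
  | 0, a, A => (a, A)
  | f + 1, a, A => bif Nat.beq (A % p) 0 then strip p f (a + 1) (A / p) else (a, A)

/-- the search for one `n` and one prime -/
def one (ex : List (ℕ × ℕ × ℕ)) (n p : ℕ) : Bool :=
  let A := n.factorial
  let s := strip p 100 0 A
  Nat.beq A (p ^ s.1 * s.2) && (Nat.blt 0 s.2 && loopN ex p (A / 2) A (2 * s.2 ^ 2) 200 700 700 (n - 2))

theorem one_spec {ex : List (ℕ × ℕ × ℕ)} {n p : ℕ} (hp : p.Prime) (hn : 5 ≤ n) (h1 : one ex n p = true)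
    {w k m h : ℕ} (hw : n - 2 ≤ w) (hk : 1 ≤ k) (hc : CP (n.factorial / 2) n.factorial w (p ^ k) m h) :
    (w, p ^ k, m) ∈ ex := by
  rw [one, Bool.and_eq_true, Bool.and_eq_true, Nat.beq_eq, Nat.blt_eq] at h1
  obtain ⟨h2, h3, h4⟩ := h1
  exact loopN_spec hp h2 h3 700 (n - 2) (by omega) h4 w k m h hw hk hc

/-- the survivors `(w, q, m)` -/
def exA (n : ℕ) : List (ℕ × ℕ × ℕ) :=
  bif Nat.ble n 12 then [(12, 2, 315)]
  else bif Nat.ble n 14 then [(12, 2, 1365), (12, 2, 819), (12, 2, 585), (12, 2, 455), (12, 2, 315), (12, 2, 273),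
    (12, 3, 7280)]
  else bif Nat.ble n 16 then []
  else bif Nat.ble n 26 then [(24, 2, 69615)]
  else []

def primes70 : List ℕ := [2, 3, 5, 7, 11, 13, 17, 19, 23, 29, 31, 37, 41, 43, 47, 53, 59, 61, 67]

theorem mem_primes {p : ℕ} (hp : p.Prime) (h : p ≤ 70) : p ∈ primes70 := by
  have key : ∀ p < 71, p.Prime → p ∈ primes70 := by decide
  exact key p (by omega) hp

/-- the whole search for `lo ≤ n < lo + c` -/
def all (lo c : ℕ) : Bool :=
  (List.range c).all fun i => primes70.all fun p => bif Nat.ble p (lo + i) then one (exA (lo + i)) (lo + i) p else true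

theorem all_spec {lo c : ℕ} (h : all lo c = true) {n p : ℕ} (h1 : lo ≤ n) (h2 : n < lo + c) (hp : p ∈ primes70)
    (hpn : p ≤ n) : one (exA n) n p = true := by
  rw [all, List.all_eq_true] at h
  have h3 := h (n - lo) (List.mem_range.2 (by omega))
  rw [List.all_eq_true] at h3
  have h4 := h3 p hp
  rw [show lo + (n - lo) = n by omega] at h4
  have h5 : Nat.ble p n = true := Nat.ble_eq_true_of_le hpn
  rw [h5, cond_true] at h4
  exact h4

theorem all_1 : all 9 22 = true := by decide +kernel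
theorem all_2 : all 31 15 = true := by decide +kernel
theorem all_3 : all 46 13 = true := by decide +kernel
theorem all_4 : all 59 12 = true := by decide +kernel

theorem mem_exA {n p w k m h : ℕ} (h1 : 9 ≤ n) (h2 : n ≤ 70) (hp : p.Prime) (hpn : p ≤ n) (hw : n - 2 ≤ w)
    (hk : 1 ≤ k) (hc : CP (n.factorial / 2) n.factorial w (p ^ k) m h) : (w, p ^ k, m) ∈ exA n := by
  have hm := mem_primes hp (hpn.trans h2)
  refine one_spec hp (by omega) ?_ hw hk hc
  rcases (by omega : n < 9 + 22 ∨ (31 ≤ n ∧ n < 31 + 15) ∨ (46 ≤ n ∧ n < 46 + 13) ∨ (59 ≤ n ∧ n < 59 + 12)) with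
    h | ⟨h, h'⟩ | ⟨h, h'⟩ | ⟨h, h'⟩
  · exact all_spec all_1 h1 h hm hpn
  · exact all_spec all_2 h h' hm hpn
  · exact all_spec all_3 h h' hm hpn
  · exact all_spec all_4 h h' hm hpn

theorem prime_pow_eq {p k r : ℕ} (hp : p.Prime) (hk : 1 ≤ k) (hr : r.Prime) (h : p ^ k = r) : p = r ∧ k = 1 := by
  have h1 : p = r := by
    have h2 : p ∣ r := h ▸ dvd_pow_self p (by omega)
    exact (Nat.prime_dvd_prime_iff_eq hp hr).1 h2
  subst h1
  refine ⟨rfl, ?_⟩
  have := Nat.pow_right_injective hp.two_le (a₁ := k) (a₂ := 1) (by simpa using h)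
  exact this

/-- **The sieve for the alternating groups.** -/
theorem sieve_an {c p w k m h : ℕ} (h1 : 9 ≤ c) (h2 : c ≤ 70) (hp : p.Prime) (hpc : p ≤ c) (hw : c - 2 ≤ w) (hk : 1 ≤ k)
    (hc : Cfsg.Agent.H391.HT.CP (c.factorial / 2) c.factorial w (p ^ k) m h) :
    (p = 2 ∧ k = 1 ∧ w = 12 ∧ c ≤ 14 ∧ m ∣ 4095) ∨ (p = 3 ∧ k = 1 ∧ w = 12 ∧ (c = 13 ∨ c = 14) ∧ m = 7280) ∨
      (p = 2 ∧ k = 1 ∧ w = 24 ∧ 17 ≤ c ∧ c ≤ 26 ∧ m = 69615) := by
  have h3 := mem_exA h1 h2 hp hpc hw hk hc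
  rcases (by omega : c ≤ 12 ∨ (13 ≤ c ∧ c ≤ 14) ∨ (15 ≤ c ∧ c ≤ 16) ∨ (17 ≤ c ∧ c ≤ 26) ∨ 27 ≤ c) with
    h | ⟨h, h'⟩ | ⟨h, h'⟩ | ⟨h, h'⟩ | h
  · have e : exA c = [(12, 2, 315)] := by
      rw [exA, Nat.ble_eq_true_of_le h, cond_true]
    rw [e] at h3
    simp only [List.mem_cons, Prod.mk.injEq, List.not_mem_nil, or_false] at h3
    obtain ⟨rfl, h4, rfl⟩ := h3
    obtain ⟨rfl, rfl⟩ := prime_pow_eq hp hk Nat.prime_two h4
    exact .inl ⟨rfl, rfl, rfl, by omega, by norm_num⟩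
  · have e : exA c = [(12, 2, 1365), (12, 2, 819), (12, 2, 585), (12, 2, 455), (12, 2, 315), (12, 2, 273),
        (12, 3, 7280)] := by
      interval_cases c <;> rfl
    rw [e] at h3
    simp only [List.mem_cons, Prod.mk.injEq, List.not_mem_nil, or_false] at h3
    rcases h3 with ⟨rfl, h4, rfl⟩ | ⟨rfl, h4, rfl⟩ | ⟨rfl, h4, rfl⟩ | ⟨rfl, h4, rfl⟩ | ⟨rfl, h4, rfl⟩ |
      ⟨rfl, h4, rfl⟩ | ⟨rfl, h4, rfl⟩
    · obtain ⟨rfl, rfl⟩ := prime_pow_eq hp hk Nat.prime_two h4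
      exact .inl ⟨rfl, rfl, rfl, by omega, by norm_num⟩
    · obtain ⟨rfl, rfl⟩ := prime_pow_eq hp hk Nat.prime_two h4
      exact .inl ⟨rfl, rfl, rfl, by omega, by norm_num⟩
    · obtain ⟨rfl, rfl⟩ := prime_pow_eq hp hk Nat.prime_two h4
      exact .inl ⟨rfl, rfl, rfl, by omega, by norm_num⟩
    · obtain ⟨rfl, rfl⟩ := prime_pow_eq hp hk Nat.prime_two h4
      exact .inl ⟨rfl, rfl, rfl, by omega, by norm_num⟩
    · obtain ⟨rfl, rfl⟩ := prime_pow_eq hp hk Nat.prime_two h4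
      exact .inl ⟨rfl, rfl, rfl, by omega, by norm_num⟩
    · obtain ⟨rfl, rfl⟩ := prime_pow_eq hp hk Nat.prime_two h4
      exact .inl ⟨rfl, rfl, rfl, by omega, by norm_num⟩
    · obtain ⟨rfl, rfl⟩ := prime_pow_eq hp hk Nat.prime_three h4
      exact .inr (.inl ⟨rfl, rfl, rfl, by omega, rfl⟩)
  · have e : exA c = [] := by
      interval_cases c <;> rfl
    rw [e] at h3
    exact absurd h3 (by simp)
  · have e : exA c = [(24, 2, 69615)] := by
      interval_cases c <;> rfl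
    rw [e] at h3
    simp only [List.mem_cons, Prod.mk.injEq, List.not_mem_nil, or_false] at h3
    obtain ⟨rfl, h4, rfl⟩ := h3
    obtain ⟨rfl, rfl⟩ := prime_pow_eq hp hk Nat.prime_two h4
    exact .inr (.inr ⟨rfl, rfl, rfl, h, h', rfl⟩)
  · have e : exA c = [] := by
      have f1 : Nat.ble c 12 = false := by
        rw [Bool.eq_false_iff]; intro h5; have := Nat.le_of_ble_eq_true h5; omega
      have f2 : Nat.ble c 14 = false := by
        rw [Bool.eq_false_iff]; intro h5; have := Nat.le_of_ble_eq_true h5; omega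
      have f3 : Nat.ble c 16 = false := by
        rw [Bool.eq_false_iff]; intro h5; have := Nat.le_of_ble_eq_true h5; omega
      have f4 : Nat.ble c 26 = false := by
        rw [Bool.eq_false_iff]; intro h5; have := Nat.le_of_ble_eq_true h5; omega
      rw [exA, f1, f2, f3, f4]
      rfl
    rw [e] at h3
    exact absurd h3 (by simp)

end Cfsg.Agent.H735.HT
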